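import Mathlib.AlgebraicGeometry.ZariskisMainTheorem
import Mathlib.AlgebraicGeometry.FunctionField
import Mathlib.RingTheory.Algebraic.Integral
import Mathlib.RingTheory.RingHom.FiniteType

/-!
# Generically finite morphisms of integral schemes
-/

universe u

open CategoryTheory Limits AlgebraicGeometry TopologicalSpace

set_option backward.isDefEq.respectTransparency.types false

namespace Groth.Agent.GenFin12

/-- A finite type domain, quasi-finite at the generic point, is finite over a nonempty basic open. -/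
theorem exists_finite_awayMap {R S : Type u} [CommRing R] [IsDomain R] [CommRing S] [IsDomain S]
    (φ : R →+* S) (hφ : Function.Injective φ) (hft : φ.FiniteType) (P : Ideal S) [P.IsPrime]
    (hP : P = ⊥) (hqf : φ.QuasiFiniteAt P) :
    ∃ a : R, a ≠ 0 ∧ (Localization.awayMap φ a).Finite := by
  classical
  algebraize [φ]
  have hqf' : Algebra.QuasiFinite R (Localization.AtPrime P) := hqf
  let L := Localization.AtPrime P
  let K := FractionRing R
  have hinjSL : Function.Injective (algebraMap S L) :=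
    IsLocalization.injective L (M := P.primeCompl) (by
      subst hP
      intro x hx
      exact mem_nonZeroDivisors_of_ne_zero fun h => hx (by simp [h]))
  have hunit : ∀ y : nonZeroDivisors R, IsUnit (algebraMap R L y) := fun y => by
    rw [IsScalarTower.algebraMap_apply R S L]
    refine IsLocalization.map_units L (⟨algebraMap R S y, fun h => ?_⟩ : P.primeCompl)
    rw [hP] at h
    exact nonZeroDivisors.ne_zero y.2 (hφ (by rw [map_zero]; exact Ideal.mem_bot.1 h))
  letI : Algebra K L := (IsLocalization.lift (M := nonZeroDivisors R) hunit).toAlgebra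
  haveI : IsScalarTower R K L := .of_algebraMap_eq fun x => (IsLocalization.lift_eq hunit x).symm
  haveI : Algebra.QuasiFinite K L := .of_restrictScalars R K L
  haveI : Module.Finite K L := .of_quasiFinite
  have halg : ∀ s : S, IsAlgebraic R s := fun s => by
    rw [← isAlgebraic_algebraMap_iff (R := R) (A := L) hinjSL, IsFractionRing.isAlgebraic_iff R K]
    exact (Algebra.IsIntegral.isIntegral (R := K) _).isAlgebraic
  obtain ⟨G, hG⟩ := (Algebra.FiniteType.out : (⊤ : Subalgebra R S).FG)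
  choose y hy hint using fun s : S => (halg s).exists_integral_multiple
  let a := ∏ s ∈ G, y s
  refine ⟨a, Finset.prod_ne_zero_iff.2 fun s _ => hy s, ?_⟩
  refine RingHom.IsIntegral.to_finite ?_
    (RingHom.localization_away_map_finiteType R S (Localization.Away a) (Localization.Away (φ a)) φ a hft)
  let ψ := Localization.awayMap φ a
  intro z
  let T : Subring (Localization.Away (φ a)) :=
    { carrier := {w | ψ.IsIntegralElem w}
      zero_mem' := ψ.isIntegralElem_zero
      one_mem' := ψ.isIntegralElem_one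
      add_mem' := fun h h' => h.add ψ h'
      neg_mem' := fun h => h.neg ψ
      mul_mem' := fun h h' => h.mul ψ h' }
  have hR : ∀ r : Localization.Away a, ψ r ∈ T := fun r => ψ.isIntegralElem_map
  have hψ : ∀ r : R, ψ (algebraMap R _ r) = algebraMap S (Localization.Away (φ a)) (φ r) := fun r =>
    IsLocalization.map_eq _ r
  have hS : ∀ s : S, algebraMap S (Localization.Away (φ a)) s ∈ T := by
    intro s
    have hs : s ∈ Algebra.adjoin R (G : Set S) := hG ▸ Algebra.mem_top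
    induction hs using Algebra.adjoin_induction with
    | algebraMap r => rw [show algebraMap R S r = φ r from rfl, ← hψ]; exact hR _
    | add x y _ _ hx hy => rw [map_add]; exact T.add_mem hx hy
    | mul x y _ _ hx hy => rw [map_mul]; exact T.mul_mem hx hy
    | mem s hs =>
      obtain ⟨v, hv⟩ : y s ∣ a := Finset.dvd_prod_of_mem y hs
      have h1 : algebraMap S (Localization.Away (φ a)) (y s • s) ∈ T := by
        obtain ⟨p, hp, hp0⟩ := hint s
        refine ⟨p.map (algebraMap R (Localization.Away a)), hp.map _, ?_⟩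
        rw [Polynomial.eval₂_map, show ψ.comp (algebraMap R (Localization.Away a)) =
          (algebraMap S (Localization.Away (φ a))).comp φ from RingHom.ext hψ,
          ← Polynomial.hom_eval₂, show Polynomial.eval₂ φ (y s • s) p = 0 from hp0, map_zero]
      obtain ⟨w, hw⟩ := isUnit_iff_exists_inv.1 (IsLocalization.Away.algebraMap_isUnit
        (S := Localization.Away a) a)
      have h2 := T.mul_mem h1 (hR (algebraMap R _ v * w))
      convert h2 using 1
      rw [map_mul, ← mul_assoc, Algebra.smul_def, map_mul, mul_comm (algebraMap S _ _) (algebraMap S _ s),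
        show algebraMap R S (y s) = φ (y s) from rfl, ← hψ, mul_assoc (algebraMap S _ s), ← map_mul, ← map_mul,
        ← hv, mul_assoc, ← map_mul, hw, map_one, mul_one]
  obtain ⟨⟨s, ⟨_, n, rfl⟩⟩, hz⟩ := IsLocalization.surj (Submonoid.powers (φ a)) z
  obtain ⟨w, hw⟩ := isUnit_iff_exists_inv.1
    ((IsLocalization.Away.algebraMap_isUnit (S := Localization.Away a) a).pow n)
  have h2 := T.mul_mem (hS s) (hR w)
  have hz' : z * algebraMap S (Localization.Away (φ a)) (φ a ^ n) = algebraMap S _ s := hz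
  rw [← hz', mul_assoc, ← map_pow φ, ← hψ, ← map_mul, map_pow, hw, map_one, mul_one] at h2
  exact h2

variable {X Y : Scheme.{u}}

theorem isFinite_restrict_mono {W Y : Scheme.{u}} (g : W ⟶ Y) {V V' : Y.Opens} (h : V' ≤ V)
    [IsFinite (g ∣_ V)] : IsFinite (g ∣_ V') := by
  have e : V.ι ''ᵁ (V.ι ⁻¹ᵁ V') = V' := by
    rw [Scheme.Hom.image_preimage_eq_opensRange_inf, Scheme.Opens.opensRange_ι, inf_eq_right.2 h]
  exact (MorphismProperty.arrow_mk_iso_iff @IsFinite (morphismRestrictRestrict g V _ ≪≫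
    morphismRestrictEq g e)).1 (IsZariskiLocalAtTarget.restrict ‹_› _)

theorem apply_genericPoint [IrreducibleSpace X] [IrreducibleSpace Y] (f : X ⟶ Y) [IsDominant f] :
    f (genericPoint X) = genericPoint Y := by
  have h1 := (genericPoint_spec X).image f.continuous
  rw [Set.image_univ, f.denseRange.closure_range] at h1
  exact h1.eq (genericPoint_spec Y)

theorem residueField_finite_iff [IsIntegral X] [IsIntegral Y] (f : X ⟶ Y) [IsDominant f] :
    (letI := (f.residueFieldMap (genericPoint X)).hom.toAlgebra;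
      Module.Finite (Y.residueField (f.base (genericPoint X))) (X.residueField (genericPoint X))) ↔
      f.QuasiFiniteAt (genericPoint X) := by
  let ξ := genericPoint X
  have hη : f ξ = genericPoint Y := (apply_genericPoint f)
  have hX : IsIso (X.residue ξ) := by
    rw [ConcreteCategory.isIso_iff_bijective]
    exact ⟨RingHom.injective (X.residue (genericPoint X)).hom, X.residue_surjective _⟩
  have hY : ∀ y : Y, y = genericPoint Y → IsIso (Y.residue y) := by
    rintro _ rfl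
    rw [ConcreteCategory.isIso_iff_bijective]
    exact ⟨RingHom.injective (Y.residue (genericPoint Y)).hom, Y.residue_surjective _⟩
  haveI := hY _ hη
  have e : f.residueFieldMap ξ = inv (Y.residue (f ξ)) ≫ f.stalkMap ξ ≫ X.residue ξ := by
    rw [← Scheme.residue_residueFieldMap, IsIso.inv_hom_id_assoc]
  have h1 : f.QuasiFiniteAt ξ ↔ (f.residueFieldMap ξ).hom.QuasiFinite := by
    rw [e, CommRingCat.hom_comp, RingHom.QuasiFinite.respectsIso.cancel_left_isIso,
      CommRingCat.hom_comp, RingHom.QuasiFinite.respectsIso.cancel_right_isIso, Scheme.Hom.QuasiFiniteAt]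
  rw [h1]
  letI := (f.residueFieldMap ξ).hom.toAlgebra
  exact Algebra.QuasiFinite.iff_of_isArtinianRing.symm

theorem eq_genericPoint_of_quasiFiniteAt [IrreducibleSpace X] (f : X ⟶ Y) [LocallyOfFiniteType f]
    (h : f.QuasiFiniteAt (genericPoint X)) (x : X) (hx : f x = f (genericPoint X)) :
    x = genericPoint X := by
  have hc := h.isClopen_singleton_asFiber
  obtain ⟨x', rfl⟩ : x ∈ Set.range (f.fiberι (f (genericPoint X))) := by
    rw [Scheme.Hom.range_fiberι]; exact hx
  have hg : f.fiberι (f (genericPoint X)) (f.asFiber (genericPoint X)) = genericPoint X :=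
    Scheme.Hom.fiberι_asFiber ..
  have hs : f.asFiber (genericPoint X) ⤳ x' := by
    rw [← (f.fiberι _).isEmbedding.isInducing.specializes_iff, hg]
    exact genericPoint_specializes _
  rw [show x' = f.asFiber (genericPoint X) from hs.mem_closed hc.1 rfl, hg]

theorem quasiFiniteAt_of_fibre_eq [IrreducibleSpace X] (f : X ⟶ Y) [LocallyOfFiniteType f]
    (h : ∀ x, f x = f (genericPoint X) → x = genericPoint X) : f.QuasiFiniteAt (genericPoint X) := by
  rw [Scheme.Hom.quasiFiniteAt_iff_isOpen_singleton_asFiber]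
  haveI : Subsingleton (f.fiber (f (genericPoint X))) := ⟨fun a b => by
    refine (f.fiberι _).isEmbedding.injective ((h _ ?_).trans (h _ ?_).symm)
    · exact (f.range_fiberι _).subset ⟨a, rfl⟩
    · exact (f.range_fiberι _).subset ⟨b, rfl⟩⟩
  exact isOpen_discrete _

/-- The main step: over a nonempty open, a given affine open becomes finite. -/
theorem exists_isFinite [IsIntegral X] [IsIntegral Y] (f : X ⟶ Y) [IsDominant f]
    [LocallyOfFiniteType f] (hqf : f.QuasiFiniteAt (genericPoint X)) {U : X.Opens} {V : Y.Opens}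
    (hU : IsAffineOpen U) (hV : IsAffineOpen V) (e : U ≤ f ⁻¹ᵁ V) [Nonempty U] :
    ∃ D : Y.Opens, IsAffineOpen D ∧ genericPoint Y ∈ D ∧ D ≤ V ∧ IsFinite ((U.ι ≫ f) ∣_ D) := by
  have hξ : genericPoint X ∈ U :=
    ((genericPoint_spec X).mem_open_set_iff U.isOpen).mpr (by simpa using ‹Nonempty U›)
  have hη : genericPoint Y ∈ V := (apply_genericPoint f) ▸ e hξ
  haveI : Nonempty V := ⟨⟨_, hη⟩⟩
  let φ := f.appLE V U e
  haveI : IsDomain Γ(X, U) := inferInstance
  haveI : IsDomain Γ(Y, V) := inferInstance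
  let P := (hU.primeIdealOf ⟨genericPoint X, hξ⟩)
  have hP : P.asIdeal = ⊥ := by
    exact congrArg PrimeSpectrum.asIdeal
      (hU.primeIdealOf_genericPoint.trans (genericPoint_eq_bot_of_affine _))
  have hinj : Function.Injective φ.hom := by
    rw [RingHom.injective_iff_ker_eq_bot, eq_bot_iff]
    have h2 : hV.primeIdealOf ⟨genericPoint Y, hη⟩ = Spec.map φ P := by
      apply hV.fromSpec.isOpenEmbedding.injective
      rw [IsAffineOpen.fromSpec_primeIdealOf, ← Scheme.Hom.comp_apply,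
        IsAffineOpen.SpecMap_appLE_fromSpec f hV hU e, Scheme.Hom.comp_apply,
        IsAffineOpen.fromSpec_primeIdealOf]
      exact (apply_genericPoint f).symm
    have h3 : (hV.primeIdealOf ⟨genericPoint Y, hη⟩).asIdeal = ⊥ := by
      exact congrArg PrimeSpectrum.asIdeal
        (hV.primeIdealOf_genericPoint.trans (genericPoint_eq_bot_of_affine _))
    intro r hr
    rw [← h3, h2]
    show φ.hom r ∈ P.asIdeal
    rw [RingHom.mem_ker.1 hr]
    exact zero_mem _
  obtain ⟨a, ha, hfin⟩ := exists_finite_awayMap φ.hom hinj (f.finiteType_appLE hV hU e) P.asIdeal hP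
    (hqf.quasiFiniteAt hU hV e hξ)
  refine ⟨Y.basicOpen a, hV.basicOpen a, ?_, Y.basicOpen_le a, ?_⟩
  · show genericPoint Y ∈ (Y.basicOpen a : Set Y)
    rw [(genericPoint_spec Y).mem_open_set_iff (Y.basicOpen a).isOpen]
    rw [Set.univ_inter, Set.nonempty_iff_ne_empty]
    exact fun h => ha ((AlgebraicGeometry.basicOpen_eq_bot_iff a).1 (SetLike.coe_injective h))
  · have h1 : IsFinite (Spec.map φ ∣_ PrimeSpectrum.basicOpen a) := by
      refine (MorphismProperty.arrow_mk_iso_iff @IsFinite (SpecMapRestrictBasicOpenIso φ a)).2 ?_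
      exact (IsFinite.SpecMap_iff _).2 hfin
    have h2 : U.ι ≫ f = hU.isoSpec.hom ≫ Spec.map φ ≫ hV.fromSpec := by
      rw [IsAffineOpen.SpecMap_appLE_fromSpec f hV hU e, IsAffineOpen.isoSpec_hom_fromSpec_assoc]
    rw [h2, morphismRestrict_comp, morphismRestrict_comp]
    haveI : Surjective (hV.fromSpec ∣_ Y.basicOpen a) := ⟨fun w => by
      obtain ⟨v, hv⟩ := hV.range_fromSpec.ge (Y.basicOpen_le a w.2)
      exact ⟨⟨v, show hV.fromSpec v ∈ Y.basicOpen a from hv ▸ w.2⟩, (Y.basicOpen a).ι.isOpenEmbedding.injective (by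
        rw [← Scheme.Hom.comp_apply, morphismRestrict_ι]; exact hv)⟩⟩
    haveI : IsIso (hV.fromSpec ∣_ Y.basicOpen a) := by
      rw [isIso_iff_isOpenImmersion_and_epi_base, TopCat.epi_iff_surjective]
      exact ⟨inferInstance, (hV.fromSpec ∣_ Y.basicOpen a).surjective⟩
    have h3 : IsFinite (Spec.map φ ∣_ hV.fromSpec ⁻¹ᵁ Y.basicOpen a) := by
      rw [hV.fromSpec_preimage_basicOpen]; exact h1
    exact MorphismProperty.comp_mem (W := @IsFinite) _ _
      (IsZariskiLocalAtTarget.restrict (MorphismProperty.of_isIso @IsFinite hU.isoSpec.hom) _)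
      (MorphismProperty.comp_mem (W := @IsFinite) _ _ h3 (MorphismProperty.of_isIso @IsFinite _))

end Groth.Agent.GenFin12

namespace Groth.Agent.GenFin12

variable {X Y : Scheme.{u}}

/-- If all of the preimage lies in `U`, finiteness passes to the restriction of `f`. -/
theorem isFinite_restrict_of_preimage_le (f : X ⟶ Y) {U : X.Opens} {V : Y.Opens}
    [IsFinite ((U.ι ≫ f) ∣_ V)] (h : f ⁻¹ᵁ V ≤ U) : IsFinite (f ∣_ V) := by
  have h0 : IsFinite ((U.ι ≫ f) ∣_ V) := inferInstance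
  haveI : Surjective (U.ι ∣_ f ⁻¹ᵁ V) := ⟨fun w =>
    ⟨⟨⟨w.1, h w.2⟩, w.2⟩, (f ⁻¹ᵁ V).ι.isOpenEmbedding.injective (by
      rw [← Scheme.Hom.comp_apply, morphismRestrict_ι]; rfl)⟩⟩
  haveI : IsIso (U.ι ∣_ f ⁻¹ᵁ V) := by
    rw [isIso_iff_isOpenImmersion_and_epi_base, TopCat.epi_iff_surjective]
    exact ⟨inferInstance, (U.ι ∣_ f ⁻¹ᵁ V).surjective⟩
  rw [morphismRestrict_comp] at h0
  exact (MorphismProperty.cancel_left_of_respectsIso @IsFinite (U.ι ∣_ f ⁻¹ᵁ V) (f ∣_ V)).1 h0

/-- Finiteness over `V` of `U ⊓ f⁻¹ V`, as a `resLE`. -/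
theorem exists_resLE_finite (f : X ⟶ Y) {U : X.Opens} {V : Y.Opens} (hV : IsAffineOpen V)
    [IsFinite ((U.ι ≫ f) ∣_ V)] :
    ∃ (W : X.Opens) (e : W ≤ f ⁻¹ᵁ V), IsAffineOpen W ∧ (∀ x ∈ U, f x ∈ V → x ∈ W) ∧
      IsFinite (f.resLE V W e) := by
  let W' := (U.ι ≫ f) ⁻¹ᵁ V
  haveI : IsAffine V := hV
  have hW' : IsAffineOpen W' := isAffine_of_isAffineHom ((U.ι ≫ f) ∣_ V)
  have hle : U.ι ''ᵁ W' ≤ f ⁻¹ᵁ V := by rintro _ ⟨w, hw, rfl⟩; exact hw
  refine ⟨U.ι ''ᵁ W', hle, hW'.image_of_isOpenImmersion U.ι, fun x hx hfx => ⟨⟨x, hx⟩, hfx, rfl⟩, ?_⟩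
  have heq : (U.ι.isoImage W').hom ≫ f.resLE V _ hle = (U.ι ≫ f) ∣_ V := by
    rw [← cancel_mono V.ι, Category.assoc, Scheme.Hom.resLE_comp_ι, morphismRestrict_ι,
      Scheme.Hom.isoImage_hom_ι_assoc]
  rw [← MorphismProperty.cancel_left_of_respectsIso @IsFinite (U.ι.isoImage W').hom, heq]
  infer_instance

/-- Separated case: the preimage is the given open. -/
theorem preimage_le_of_isSeparated [IrreducibleSpace X] (f : X ⟶ Y) [IsSeparated f] {U : X.Opens} {V : Y.Opens}
    [IsFinite ((U.ι ≫ f) ∣_ V)] {ξ : X} (hξU : ξ ∈ U) (hξV : f ξ ∈ V) : f ⁻¹ᵁ V ≤ U := by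
  have h0 : IsFinite ((U.ι ≫ f) ∣_ V) := inferInstance
  rw [morphismRestrict_comp] at h0
  haveI := h0
  haveI : IsProper (U.ι ∣_ f ⁻¹ᵁ V) := by
    haveI hf' : IsFinite (U.ι ∣_ f ⁻¹ᵁ V ≫ f ∣_ V) := h0
    haveI : IsProper (U.ι ∣_ f ⁻¹ᵁ V ≫ f ∣_ V) := ((IsFinite.iff_isProper_and_locallyQuasiFinite _).1 hf').1
    exact IsProper.of_comp _ (f ∣_ V)
  have hclosed : IsClosed (Set.range (U.ι ∣_ f ⁻¹ᵁ V)) :=
    (U.ι ∣_ f ⁻¹ᵁ V).isClosedMap.isClosed_range
  haveI : IrreducibleSpace (f ⁻¹ᵁ V).toScheme :=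
    haveI : Nonempty (f ⁻¹ᵁ V).toScheme := ⟨⟨ξ, hξV⟩⟩
    (f ⁻¹ᵁ V).ι.isOpenEmbedding.irreducibleSpace
  intro x hx
  have hdense : Dense (Set.range (U.ι ∣_ f ⁻¹ᵁ V)) :=
    (U.ι ∣_ f ⁻¹ᵁ V).isOpenEmbedding.isOpen_range.dense
      ⟨_, ⟨⟨⟨ξ, hξU⟩, hξV⟩, rfl⟩⟩
  obtain ⟨w, hw⟩ : (⟨x, hx⟩ : (f ⁻¹ᵁ V).toScheme) ∈ Set.range (U.ι ∣_ f ⁻¹ᵁ V) := by
    have := hdense ⟨x, hx⟩
    rwa [hclosed.closure_eq] at this
  have := congrArg (f ⁻¹ᵁ V).ι hw
  rw [← Scheme.Hom.comp_apply, morphismRestrict_ι] at this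
  exact (show x = w.1.1 from this.symm) ▸ w.1.2

/-- Quasi-compact case: after shrinking the base the preimage is contained in the given open. -/
theorem exists_preimage_le [IsIntegral X] [IsIntegral Y] (f : X ⟶ Y) [IsDominant f]
    [LocallyOfFiniteType f] [QuasiCompact f] (hqf : f.QuasiFiniteAt (genericPoint X)) {U₀ : X.Opens}
    (hξU : genericPoint X ∈ U₀) {D₀ : Y.Opens} (hη₀ : genericPoint Y ∈ D₀) (hD₀ : IsAffineOpen D₀)
    [IsFinite ((U₀.ι ≫ f) ∣_ D₀)] :
    ∃ D : Y.Opens, IsAffineOpen D ∧ genericPoint Y ∈ D ∧ D ≤ D₀ ∧ f ⁻¹ᵁ D ≤ U₀ := by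
  classical
  have hx : ∀ x : (f ⁻¹ᵁ D₀ : X.Opens), ∃ U : X.Opens, IsAffineOpen U ∧ x.1 ∈ U ∧ U ≤ f ⁻¹ᵁ D₀ := fun x => by
    obtain ⟨U, hU, hxU, hle⟩ := exists_isAffineOpen_mem_and_subset x.2
    exact ⟨U, hU, hxU, hle⟩
  choose U hU hxU hUle using hx
  obtain ⟨t, ht⟩ := (f.isCompact_preimage hD₀.isCompact).elim_finite_subcover (fun x => (U x : Set X))
    (fun x => (U x).2) fun x hx => Set.mem_iUnion.2 ⟨⟨x, hx⟩, hxU ⟨x, hx⟩⟩
  have hD : ∀ x, ∃ D : Y.Opens, IsAffineOpen D ∧ genericPoint Y ∈ D ∧ D ≤ D₀ ∧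
      IsFinite (((U x).ι ≫ f) ∣_ D) := fun x => by
    haveI : Nonempty (U x) := ⟨⟨_, hxU x⟩⟩
    exact exists_isFinite f hqf (hU x) hD₀ (hUle x)
  choose D hDaff hηD hDle hfin using hD
  let D₁ : Y.Opens := t.inf D ⊓ D₀
  have hη₁ : genericPoint Y ∈ D₁ := ⟨by
    have : ∀ s : Finset _, genericPoint Y ∈ s.inf D := fun s => by
      induction s using Finset.induction_on with
      | empty => rw [Finset.inf_empty]; trivial
      | insert a s _ ih => rw [Finset.inf_insert]; exact ⟨hηD a, ih⟩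
    exact this t, hη₀⟩
  have key : ∀ x ∈ t, ∃ O : Y.Opens, genericPoint Y ∈ O ∧ O ≤ D₁ ∧
      ∀ z ∈ U x, f z ∈ O → z ∈ U₀ := by
    intro x hxt
    haveI := hfin x
    haveI := isFinite_restrict_mono ((U x).ι ≫ f) (V := D x) (V' := D₁)
      (inf_le_left.trans (Finset.inf_le hxt))
    let r := ((U x).ι ≫ f) ∣_ D₁
    let C : Set (((U x).ι ≫ f) ⁻¹ᵁ D₁).toScheme := {w | w.1.1 ∉ U₀}
    have hC : IsClosed C := U₀.isOpen.isClosed_compl.preimage
      ((((U x).ι ≫ f) ⁻¹ᵁ D₁).ι ≫ (U x).ι).continuous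
    have hCim : IsClosed (r '' C) := r.isClosedMap C hC
    refine ⟨D₁.ι ''ᵁ ⟨(r '' C)ᶜ, hCim.isOpen_compl⟩, ⟨⟨_, hη₁⟩, ?_, rfl⟩,
      (D₁.ι.image_le_opensRange _).trans D₁.opensRange_ι.le, ?_⟩
    · rintro ⟨w, hw, hwe⟩
      refine hw ?_
      have h1 := congrArg D₁.ι hwe
      rw [← Scheme.Hom.comp_apply, morphismRestrict_ι] at h1
      rw [eq_genericPoint_of_quasiFiniteAt f hqf w.1.1 (h1.trans (apply_genericPoint f).symm)]
      exact hξU
    · rintro z hz ⟨o, ho, hoe⟩
      by_contra hzU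
      refine ho ⟨⟨⟨z, hz⟩, show f z ∈ D₁ from hoe ▸ o.2⟩, hzU, ?_⟩
      apply D₁.ι.isOpenEmbedding.injective
      rw [← Scheme.Hom.comp_apply, morphismRestrict_ι]
      exact hoe.symm
  choose O hηO hOle hO using key
  let O₁ : Y.Opens := t.attach.inf (fun x => O x.1 x.2) ⊓ D₁
  have hη₂ : genericPoint Y ∈ O₁ := ⟨by
    have : ∀ s : Finset {x // x ∈ t}, genericPoint Y ∈ s.inf (fun x => O x.1 x.2) := fun s => by
      induction s using Finset.induction_on with
      | empty => rw [Finset.inf_empty]; trivial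
      | insert a s _ ih => rw [Finset.inf_insert]; exact ⟨hηO _ _, ih⟩
    exact this _, hη₁⟩
  obtain ⟨D', hD', hηD', hD'le⟩ := exists_isAffineOpen_mem_and_subset hη₂
  refine ⟨D', hD', hηD', fun y hy => (hD'le hy).2.2, fun z hz => ?_⟩
  obtain ⟨x, hxt, hzx⟩ := Set.mem_iUnion₂.1 (ht ((hD'le hz).2.2))
  exact hO x hxt z hzx ((Finset.inf_le (Finset.mem_attach t ⟨x, hxt⟩) :
    t.attach.inf (fun x => O x.1 x.2) ≤ O x hxt) (hD'le hz).1)

end Groth.Agent.GenFin12
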